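import Cfsg.Agent.Lib.EPPOSimple.Main
import Cfsg.Agent.Lib.CIT.Classification
import Cfsg.Agent.Lib.CITApp.Socle
import Cfsg.Agent.Lib.CITApp.Solvable
import Cfsg.Agent.Lib.ThreeOrd.EqTop
import Cfsg.Agent.Lib.ThreeOrd.Models
import Cfsg.Agent.S1475

/-!
# Groups all of whose elements have prime power order have at most four primes
-/

set_option autoImplicit false
set_option linter.style.haveILetI false

namespace CfsgLib.EPPOSimple

open CfsgLib.CIT Matrix

/-- A lift of odd order of an element of order three. -/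
theorem exists_odd_lift {G : Type*} [Group G] [Finite G] (W : Subgroup G) [W.Normal] (g : G)
    (hg : QuotientGroup.mk' W g ^ 3 = 1) :
    ∃ n : ℕ, Odd (orderOf (g ^ n)) ∧ QuotientGroup.mk' W (g ^ n) = QuotientGroup.mk' W g := by
  obtain ⟨k, o, hodd, ho⟩ := Nat.exists_eq_two_pow_mul_odd (orderOf_pos g).ne'
  refine ⟨4 ^ k, ?_, ?_⟩
  · refine hodd.of_dvd_nat (orderOf_dvd_of_pow_eq_one ?_)
    rw [← pow_mul, ← orderOf_dvd_iff_pow_eq_one, ho, show (4 : ℕ) = 2 * 2 from rfl, mul_pow]
    exact ⟨2 ^ k, by ring⟩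
  · rw [map_pow, ← pow_mod_orderOf]
    rcases (Nat.dvd_prime Nat.prime_three).1 (orderOf_dvd_of_pow_eq_one hg) with h | h <;> rw [h]
    · rw [Nat.mod_one, pow_zero, orderOf_eq_one_iff.1 h]
    · rw [Nat.pow_mod]; simp

/-- A normal 2-subgroup is trivial below an elementary abelian group of order nine. -/
theorem eq_bot_of_three_pair {G : Type*} [Group G] [Finite G] (hC : IsCIT G) (W : Subgroup G)
    [W.Normal] (hW : IsPGroup 2 W) (x y : G ⧸ W) (hx : x ^ 3 = 1) (hy : y ^ 3 = 1)
    (hxy : x * y = y * x) (hx1 : x ≠ 1) (hy1 : y ≠ 1) (hxy1 : x * y ≠ 1) (hxy2 : x⁻¹ * y ≠ 1) :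
    W = ⊥ := by
  by_contra hW1
  haveI : Fact (Nat.Prime 2) := ⟨Nat.prime_two⟩
  obtain ⟨V, hVn, hV1, hVc, hV2⟩ := CfsgLib.CITApp.exists_normal_exponent_two W hW hW1
  haveI := hVn
  obtain ⟨⟨v, hv⟩, hv1⟩ := Subgroup.ne_bot_iff_exists_ne_one.mp hV1
  replace hv1 : v ≠ 1 := fun e => hv1 (Subtype.ext e)
  obtain ⟨j, hj⟩ := IsPGroup.iff_card.mp hW
  have hcopW : ∀ g : G, Odd (orderOf g) → (orderOf g).Coprime (Nat.card W) := fun g hg => by
    rw [hj]; exact (Nat.coprime_two_right.mpr hg).pow_right j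
  obtain ⟨x₀, rfl⟩ := QuotientGroup.mk'_surjective W x
  obtain ⟨y₀, rfl⟩ := QuotientGroup.mk'_surjective W y
  obtain ⟨n, hyodd, hyq⟩ := exists_odd_lift W y₀ hy
  obtain ⟨c, hc, hcc⟩ := CfsgLib.CN.exists_commute_lift W (x := x₀) (hcopW _ hyodd)
    (by rw [hyq]; exact hxy)
  have hcq : QuotientGroup.mk' W (c * x₀) = QuotientGroup.mk' W x₀ := by
    rw [map_mul, show QuotientGroup.mk' W c = 1 from (QuotientGroup.eq_one_iff c).mpr hc, one_mul]
  obtain ⟨k, hxodd, hxq⟩ := exists_odd_lift W (c * x₀) (by rw [hcq]; exact hx)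
  rw [hcq] at hxq
  set a := (c * x₀) ^ k
  set b := y₀ ^ n
  have hab : Commute a b := (Commute.pow_left hcc k)
  have hW3 : ∀ g : G, Odd (orderOf g) → QuotientGroup.mk' W g ^ 3 = 1 → g ^ 3 = 1 := by
    intro g hg h3
    rw [← map_pow, QuotientGroup.mk'_apply, QuotientGroup.eq_one_iff] at h3
    refine orderOf_eq_one_iff.1 (Nat.eq_one_of_dvd_coprimes (hcopW g hg)
      (orderOf_pow_dvd 3) ?_)
    rw [← Subgroup.orderOf_mk (g ^ 3) h3]
    exact orderOf_dvd_natCard _
  have ha3 : a ^ 3 = 1 := hW3 a hxodd (by rw [hxq]; exact hx)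
  have hb3 : b ^ 3 = 1 := hW3 b hyodd (by rw [hyq]; exact hy)
  have hfree : ∀ g : G, g ^ 3 = 1 → QuotientGroup.mk' W g ≠ 1 → ∀ u ∈ V,
      g * u * g⁻¹ = u → u = 1 := by
    intro g h3 hg u hu hc
    by_contra hu1
    refine hg ?_
    have : g = 1 := eq_one_of_commute_invol hC (u := u) (h := g)
      (orderOf_eq_prime (hV2 u hu) hu1) (mul_inv_eq_iff_eq_mul.mp hc).symm
      ((show Odd 3 by decide).of_dvd_nat (orderOf_dvd_of_pow_eq_one h3))
    rw [this, map_one]
  let act : G → G → G := fun g u => g * u * g⁻¹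
  have hmem : ∀ g u, u ∈ V → act g u ∈ V := fun g u hu => hVn.conj_mem u hu g
  have hact : ∀ g h u, act g (act h u) = act (g * h) u := fun g h u => by
    show g * (h * u * h⁻¹) * g⁻¹ = g * h * u * (g * h)⁻¹; group
  have hamul : ∀ g u w, act g (u * w) = act g u * act g w := fun g u w => by
    show g * (u * w) * g⁻¹ = g * u * g⁻¹ * (g * w * g⁻¹); group
  have hcomm : ∀ u ∈ V, ∀ w ∈ V, u * w = w * u := fun u hu w hw =>
    congrArg Subtype.val (hVc.is_comm.comm (⟨u, hu⟩ : V) ⟨w, hw⟩)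
  have hsq : ∀ u ∈ V, u * u = 1 := fun u hu => by rw [← sq]; exact hV2 u hu
  -- the product over a fixed-point-free element of order three
  have hsum : ∀ g : G, g ^ 3 = 1 → QuotientGroup.mk' W g ≠ 1 → ∀ u ∈ V,
      act g (act g u) = u * act g u := by
    intro g h3 hg u hu
    set p := u * act g u * act g (act g u) with hp
    have hpV : p ∈ V := mul_mem (mul_mem hu (hmem g u hu)) (hmem g _ (hmem g u hu))
    have h3' : act g (act g (act g u)) = u := by
      rw [hact, hact, show g * g * g = 1 from by rw [← h3, pow_succ, sq]]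
      simp [act]
    have hp1 : p = 1 := hfree g h3 hg p hpV (by
      show act g p = p
      rw [hp, hamul, hamul, h3', mul_assoc u]
      exact hcomm _ (mul_mem (hmem g u hu) (hmem g _ (hmem g u hu))) u hu)
    calc act g (act g u) = (u * act g u)⁻¹ * p := by rw [hp]; group
      _ = u * act g u := by
        rw [hp1, mul_one, inv_eq_of_mul_eq_one_right (hsq _ (mul_mem hu (hmem g u hu)))]
  have hAx : QuotientGroup.mk' W a ≠ 1 := by rw [hxq]; exact hx1
  have hBy : QuotientGroup.mk' W b ≠ 1 := by rw [hyq]; exact hy1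
  have hABq : QuotientGroup.mk' W (a * b) ≠ 1 := by rw [map_mul, hxq, hyq]; exact hxy1
  -- `a` and `b` agree on `V`
  have key : ∀ u ∈ V, act a u = act b u := by
    intro u hu
    have h1 := hsum (a * b) (by rw [hab.mul_pow, ha3, hb3, one_mul]) hABq u hu
    rw [← hact, ← hact a b, show act b (act a (act b u)) = act a (act b (act b u)) by
      rw [hact, ← hab.eq, ← hact], hsum b hb3 hBy u hu, hamul a u, hamul a (act a u),
      hsum a ha3 hAx u hu, hsum a ha3 hAx (act b u) (hmem b u hu)] at h1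
    -- `u (a u) (b u) (a b u) = u (a b u)`
    set p := act a u
    set q := act b u
    set r := act a q
    have hp : p ∈ V := hmem a u hu
    have hq : q ∈ V := hmem b u hu
    have h2 : p * q = 1 := by
      have h1' : u * (p * q) * r = u * 1 * r := by
        rw [mul_one]; rw [← h1]; simp only [mul_assoc]
      exact mul_left_cancel (mul_right_cancel h1')
    rw [eq_inv_of_mul_eq_one_left h2, inv_eq_of_mul_eq_one_right (hsq q hq)]
  refine hxy2 ?_
  by_contra hne
  have hg3 : (a⁻¹ * b) ^ 3 = 1 := by rw [hab.inv_left.mul_pow, inv_pow, ha3, hb3, inv_one, one_mul]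
  refine hv1 (hfree (a⁻¹ * b) hg3 (by rw [map_mul, map_inv, hxq, hyq]; exact hne) v hv ?_)
  show act (a⁻¹ * b) v = v
  rw [← hact, ← key v hv, hact, inv_mul_cancel]
  simp [act]

/-- The matrices giving an elementary abelian group of order nine. -/
theorem exists_three_pair {F : Type*} [Field F] [Fintype F] (hF : Fintype.card F = 4) :
    ∃ x y : ProjectiveSpecialLinearGroup (Fin 3) F, x ^ 3 = 1 ∧ y ^ 3 = 1 ∧ x * y = y * x ∧
      x ≠ 1 ∧ y ≠ 1 ∧ x * y ≠ 1 ∧ x⁻¹ * y ≠ 1 := by
  classical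
  haveI := CfsgLib.ThreeOrd.charP_of_card (F := F) (p := 2) (n := 2) Nat.prime_two two_ne_zero
    (by rw [hF]; norm_num)
  obtain ⟨u, hu⟩ := IsCyclic.exists_ofOrder_eq_natCard (α := Fˣ)
  rw [Nat.card_units, Nat.card_eq_fintype_card, hF] at hu
  set ω : F := (u : F) with hω
  have h3 : ω ^ 3 = 1 := by
    rw [hω, ← Units.val_pow_eq_pow_val, show (3 : ℕ) = 4 - 1 from rfl, ← hu, pow_orderOf_eq_one,
      Units.val_one]
  have hω1 : ω ≠ 1 := fun e => by
    rw [hω, Units.val_eq_one] at e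
    rw [e, orderOf_one] at hu
    omega
  have hω0 : ω ≠ 0 := u.ne_zero
  let x : Matrix.SpecialLinearGroup (Fin 3) F := ⟨!![1, 0, 0; 0, ω, 0; 0, 0, ω * ω], by
    simp [Matrix.det_fin_three]; linear_combination h3⟩
  let y : Matrix.SpecialLinearGroup (Fin 3) F := ⟨!![0, 1, 0; 0, 0, 1; 1, 0, 0], by
    simp [Matrix.det_fin_three]⟩
  let z : Matrix.SpecialLinearGroup (Fin 3) F := ⟨!![ω, 0, 0; 0, ω, 0; 0, 0, ω], by
    simp [Matrix.det_fin_three]; linear_combination h3⟩
  have hz : z ∈ Subgroup.center (Matrix.SpecialLinearGroup (Fin 3) F) := by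
    refine Matrix.SpecialLinearGroup.mem_center_iff.mpr ⟨ω, by simpa using h3, ?_⟩
    ext i j; fin_cases i <;> fin_cases j <;> simp [z, Matrix.scalar]
  have hx3 : x ^ 3 = 1 := by
    apply Subtype.ext
    rw [pow_succ, sq, Matrix.SpecialLinearGroup.coe_mul, Matrix.SpecialLinearGroup.coe_mul]
    ext i j; fin_cases i <;> fin_cases j <;> simp [x, Matrix.mul_apply, Fin.sum_univ_three] <;>
      (first
        | linear_combination h3
        | linear_combination (ω ^ 3 + 1) * h3)
  have hy3 : y ^ 3 = 1 := by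
    apply Subtype.ext
    rw [pow_succ, sq, Matrix.SpecialLinearGroup.coe_mul, Matrix.SpecialLinearGroup.coe_mul]
    ext i j; fin_cases i <;> fin_cases j <;> simp [y, Matrix.mul_apply, Fin.sum_univ_three]
  have hcomm : y * x = z * (x * y) := by
    apply Subtype.ext
    rw [Matrix.SpecialLinearGroup.coe_mul, Matrix.SpecialLinearGroup.coe_mul, Matrix.SpecialLinearGroup.coe_mul]
    ext i j; fin_cases i <;> fin_cases j <;>
      simp [x, y, z, Matrix.mul_apply, Fin.sum_univ_three] <;>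
      (first
        | linear_combination h3
        | linear_combination -h3)
  have hnc : ∀ g : Matrix.SpecialLinearGroup (Fin 3) F, g ∈ Subgroup.center (Matrix.SpecialLinearGroup (Fin 3) F) →
      (g : Matrix (Fin 3) (Fin 3) F) 0 0 = (g : Matrix (Fin 3) (Fin 3) F) 1 1 ∧
        (g : Matrix (Fin 3) (Fin 3) F) 0 1 = 0 := by
    intro g hg
    obtain ⟨r, -, hr⟩ := Matrix.SpecialLinearGroup.mem_center_iff.mp hg
    rw [← hr]; simp [Matrix.scalar]
  let π := QuotientGroup.mk' (Subgroup.center (Matrix.SpecialLinearGroup (Fin 3) F))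
  refine ⟨π x, π y, by rw [← map_pow, hx3, map_one], by rw [← map_pow, hy3, map_one], ?_, ?_, ?_,
    ?_, ?_⟩
  · rw [← map_mul, ← map_mul, hcomm, map_mul π z,
      show π z = 1 from (QuotientGroup.eq_one_iff z).mpr hz, one_mul]
  · intro e
    exact hω1 (by simpa [x] using ((hnc x ((QuotientGroup.eq_one_iff x).mp e)).1).symm)
  · intro e
    simpa [y] using (hnc y ((QuotientGroup.eq_one_iff y).mp e)).2
  · intro e
    rw [← map_mul] at e
    have h2 := (hnc (x * y) ((QuotientGroup.eq_one_iff _).mp e)).2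
    rw [Matrix.SpecialLinearGroup.coe_mul] at h2
    simp [x, y, Matrix.mul_apply, Fin.sum_univ_three] at h2
  · intro e
    have h' : π (x⁻¹ * y) = 1 := by rw [map_mul, map_inv]; exact e
    have hinv : x⁻¹ = x * x := inv_eq_of_mul_eq_one_right (by
      rw [← mul_assoc, ← hx3, pow_succ, sq])
    rw [hinv] at h'
    have h2 := (hnc _ ((QuotientGroup.eq_one_iff _).mp h')).2
    rw [Matrix.SpecialLinearGroup.coe_mul, Matrix.SpecialLinearGroup.coe_mul] at h2
    simp [x, y, Matrix.mul_apply, Fin.sum_univ_three] at h2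

theorem primeFactors_subset {n p q r s a b c d : ℕ} (hp : p.Prime) (hq : q.Prime) (hr : r.Prime)
    (hs : s.Prime) (h : n ∣ p ^ a * q ^ b * r ^ c * s ^ d) :
    n.primeFactors ⊆ ({p, q, r, s} : Finset ℕ) := by
  intro l hl
  rw [Nat.mem_primeFactors] at hl
  have key : ∀ {t e : ℕ}, t.Prime → l ∣ t ^ e → l = t := fun ht hd =>
    (Nat.prime_dvd_prime_iff_eq hl.1 ht).1 (hl.1.dvd_of_dvd_pow hd)
  simp only [Finset.mem_insert, Finset.mem_singleton]
  rcases hl.1.dvd_mul.1 (hl.2.1.trans h) with hd | hd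
  · rcases hl.1.dvd_mul.1 hd with hd | hd
    · rcases hl.1.dvd_mul.1 hd with hd | hd
      · exact Or.inl (key hp hd)
      · exact Or.inr (Or.inl (key hq hd))
    · exact Or.inr (Or.inr (Or.inl (key hr hd)))
  · exact Or.inr (Or.inr (Or.inr (key hs hd)))

/-- The groups on the list with four primes. -/
def Four (T : Type*) [Group T] : Prop :=
  (∃ (F : Type) (_ : Field F) (_ : Fintype F), Fintype.card F = 4 ∧
      Nonempty (T ≃* Matrix.ProjectiveSpecialLinearGroup (Fin 3) F)) ∨
    (∃ (F : Type) (_ : Field F) (_ : Fintype F),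
      (Fintype.card F = 8 ∧ Nonempty (T ≃* ↥(Cfsg.Lie.Sz F 4))) ∨
        (Fintype.card F = 32 ∧ Nonempty (T ≃* ↥(Cfsg.Lie.Sz F 8))))

theorem primeFactors_list {T : Type*} [Group T] (h : List' T) :
    (Nat.card T).primeFactors.card ≤ 3 ∨ Four T ∧ (Nat.card T).primeFactors.card ≤ 4 := by
  have c3 : ∀ {p q r : ℕ}, ({p, q, r, r} : Finset ℕ).card ≤ 3 := fun {p q r} => by
    rw [show ({p, q, r, r} : Finset ℕ) = {p, q, r} by simp]
    exact Finset.card_le_three
  have c4 : ∀ {p q r s : ℕ}, ({p, q, r, s} : Finset ℕ).card ≤ 4 := fun {p q r s} =>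
    Finset.card_le_four
  rcases h with ⟨⟨e⟩⟩ | ⟨F, iF, iFF, hF, ⟨e⟩⟩ | h4 | hS
  · left
    rw [Nat.card_congr e.toEquiv, show Nat.card (alternatingGroup (Fin 6)) = 360 by
      rw [nat_card_alternatingGroup, Nat.card_fin]; rfl]
    exact (Finset.card_le_card (primeFactors_subset (p := 2) (q := 3) (r := 5) (s := 5) (a := 3)
      (b := 2) (c := 1) (d := 0) (by norm_num) (by norm_num) (by norm_num) (by norm_num)
      (by norm_num))).trans c3
  · left
    have hd : Nat.card T ∣ Fintype.card F * (Fintype.card F ^ 2 - 1) := by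
      rw [Nat.card_congr e.toEquiv, ← CfsgLib.CITApp.card_psl_two_mul]
      exact dvd_mul_left _ _
    simp only [Finset.mem_insert, Finset.mem_singleton] at hF
    rcases hF with hF | hF | hF | hF <;> rw [hF] at hd
    · exact (Finset.card_le_card (primeFactors_subset (p := 2) (q := 3) (r := 5) (s := 5) (a := 2)
        (b := 1) (c := 1) (d := 0) (by norm_num) (by norm_num) (by norm_num) (by norm_num)
        (hd.trans (by norm_num)))).trans c3
    · exact (Finset.card_le_card (primeFactors_subset (p := 2) (q := 3) (r := 7) (s := 7) (a := 4)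
        (b := 1) (c := 1) (d := 0) (by norm_num) (by norm_num) (by norm_num) (by norm_num)
        (hd.trans (by norm_num)))).trans c3
    · exact (Finset.card_le_card (primeFactors_subset (p := 2) (q := 3) (r := 7) (s := 7) (a := 3)
        (b := 2) (c := 1) (d := 0) (by norm_num) (by norm_num) (by norm_num) (by norm_num)
        (hd.trans (by norm_num)))).trans c3
    · exact (Finset.card_le_card (primeFactors_subset (p := 2) (q := 3) (r := 17) (s := 17)
        (a := 5) (b := 2) (c := 1) (d := 0) (by norm_num) (by norm_num) (by norm_num) (by norm_num)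
        (hd.trans (by norm_num)))).trans c3
  · obtain ⟨F, iF, iFF, hF, ⟨e⟩⟩ := h4
    refine Or.inr ⟨Or.inl ⟨F, iF, iFF, hF, ⟨e⟩⟩, ?_⟩
    have h2 : Nat.card T ∣ Nat.card (GL (Fin 3) F) := by
      rw [Nat.card_congr e.toEquiv]
      exact (Subgroup.card_quotient_dvd_card _).trans (Subgroup.card_dvd_of_injective
        Matrix.SpecialLinearGroup.toGL Matrix.SpecialLinearGroup.toGL_injective)
    rw [Matrix.card_GL_field, hF] at h2
    exact (Finset.card_le_card (primeFactors_subset (p := 2) (q := 3) (r := 5) (s := 7) (a := 6)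
      (b := 4) (c := 1) (d := 1) (by norm_num) (by norm_num) (by norm_num) (by norm_num)
      (h2.trans (by simp [Fin.prod_univ_three])))).trans c4
  · obtain ⟨F, iF, iFF, hcase⟩ := hS
    refine Or.inr ⟨Or.inr ⟨F, iF, iFF, hcase⟩, ?_⟩
    rcases hcase with ⟨hF, ⟨e⟩⟩ | ⟨hF, ⟨e⟩⟩
    · have hc : Nat.card T = 29120 := by
        rw [Nat.card_congr e.toEquiv]
        exact (CfsgLib.SuzukiMatrix.card_lieSz (m := 1) ⟨le_rfl, by rw [hF]; norm_num⟩).trans (by norm_num)
      exact (Finset.card_le_card (primeFactors_subset (p := 2) (q := 5) (r := 7) (s := 13) (a := 6)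
        (b := 1) (c := 1) (d := 1) (by norm_num) (by norm_num) (by norm_num) (by norm_num)
        (by rw [hc]; norm_num))).trans c4
    · have hc : Nat.card T = 32537600 := by
        rw [Nat.card_congr e.toEquiv]
        exact (CfsgLib.SuzukiMatrix.card_lieSz (m := 2) ⟨by omega, by rw [hF]; norm_num⟩).trans (by norm_num)
      exact (Finset.card_le_card (primeFactors_subset (p := 2) (q := 5) (r := 31) (s := 41)
        (a := 10) (b := 2) (c := 1) (d := 1) (by norm_num) (by norm_num) (by norm_num) (by norm_num)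
        (by rw [hc]; norm_num))).trans c4

theorem eq_top_sz {X : Type*} [Group X] [Finite X] (hC : IsCIT X) (T : Subgroup X) [T.Normal]
    (hq : IsPGroup 2 (X ⧸ T)) {F : Type} [Field F] [Fintype F] {m : ℕ}
    (h : CfsgLib.Suzuki.SzHyp F m) (e : T ≃* ↥(Cfsg.Lie.Sz F (2 ^ (m + 1)))) : T = ⊤ := by
  obtain ⟨-, -, r, x, i, hr, hr3, hx, hi, hcyc⟩ := CfsgLib.ThreeOrd.sz_facts h
  haveI := Fact.mk hr
  let f := e.trans (CfsgLib.SuzukiMatrix.szEquiv h).symm
  refine CfsgLib.ThreeOrd.eq_top_of_inverted hC hq hr hr3 (x := ((f.symm x : T) : X))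
    (i := ((f.symm i : T) : X)) (f.symm x).2
    (by rw [Subgroup.orderOf_coe, MulEquiv.orderOf_eq, hx]) (f.symm i).2
    (by rw [← Subgroup.coe_inv, ← Subgroup.coe_mul, ← Subgroup.coe_mul, ← Subgroup.coe_inv,
      ← map_inv, ← map_mul, ← map_mul, hi, map_inv]) fun R => ?_
  haveI := hcyc (R.mapSurjective (f := f.toMonoidHom) f.surjective)
  exact ((R : Subgroup T).equivMapOfInjective f.toMonoidHom f.injective).isCyclic.mpr (hcyc (R.mapSurjective (f := f.toMonoidHom) f.surjective))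

/-- Finite groups all of whose elements have prime power order. -/
theorem four_primes {G : Type*} [Group G] [Finite G]
    (h : ∀ g : G, g ≠ 1 → IsPrimePow (orderOf g)) :
    (Nat.card G).primeFactors.card ≤ 4 ∧
    ((Nat.card G).primeFactors.card = 4 →
      (∃ (F : Type) (_ : Field F) (_ : Fintype F), Fintype.card F = 4 ∧
        Nonempty (G ≃* Matrix.ProjectiveSpecialLinearGroup (Fin 3) F)) ∨
      (∃ (N : Subgroup G) (_ : N.Normal), IsPGroup 2 ↥N ∧
        ∃ (F : Type) (_ : Field F) (_ : Fintype F),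
          (Fintype.card F = 8 ∧ Nonempty (G ⧸ N ≃* ↥(Cfsg.Lie.Sz F 4))) ∨
          (Fintype.card F = 32 ∧ Nonempty (G ⧸ N ≃* ↥(Cfsg.Lie.Sz F 8))))) := by
  by_cases hsol : Group.IsSolvable G
  · haveI := hsol
    have h2 := Cfsg.Agent.S1475.result (G := G) fun g => (em (g = 1)).symm.imp (h g) id
    exact ⟨by omega, fun h4 => absurd h4 (by omega)⟩
  haveI : Fact (Nat.Prime 2) := ⟨Nat.prime_two⟩
  have hC := isCIT h
  obtain ⟨T, hTn, hTs, hab, -, hpq, hCX, hπ⟩ := CfsgLib.CITApp.exists_socle_classified hC hsol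
    (fun T hs hab' hC' => by haveI := hs; exact classification hab' hC')
  haveI := hTn
  haveI := hTs
  have hW : IsPGroup 2 (Cfsg.pCore 2 G) := CfsgLib.Solvable.pCore_isPGroup 2 G
  have hT : ∀ g : T, g ≠ 1 → IsPrimePow (orderOf g) := by
    intro g hg
    obtain ⟨g₀, hg₀⟩ := QuotientGroup.mk'_surjective (Cfsg.pCore 2 G) (g : G ⧸ Cfsg.pCore 2 G)
    have hd : orderOf g ∣ orderOf g₀ := by
      rw [← Subgroup.orderOf_coe, ← hg₀]; exact orderOf_map_dvd _ g₀
    refine (h g₀ fun e => hg ?_).dvd hd fun e => hg (orderOf_eq_one_iff.1 e)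
    rw [e, map_one] at hg₀
    exact Subtype.ext hg₀.symm
  have hlist := list_of_dichotomy hab hT (nonTI_or_exists_isTI hab (isCIT hT))
  have hpf : (Nat.card G).primeFactors = (Nat.card T).primeFactors := by
    have h2T := two_dvd_card hab
    have h2G : 2 ∣ Nat.card G :=
      (h2T.trans (Subgroup.card_subgroup_dvd_card T)).trans (Subgroup.card_quotient_dvd_card _)
    ext r
    simp only [Nat.mem_primeFactors, ne_eq, Nat.card_pos.ne', not_false_eq_true, and_true]
    exact and_congr_right fun hr =>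
      (em (r = 2)).elim (fun e => by subst e; exact iff_of_true h2G h2T) (hπ r hr)
  rw [hpf]
  rcases primeFactors_list hlist with h3 | ⟨hfour, h4⟩
  · exact ⟨by omega, fun h4 => absurd h4 (by omega)⟩
  refine ⟨h4, fun _ => ?_⟩
  rcases hfour with ⟨F, iF, iFF, hF, ⟨e⟩⟩ | ⟨F, iF, iFF, hcase⟩
  · obtain ⟨⟨a, b, ha, hb, hab'⟩, h49⟩ := CfsgLib.ThreeOrd.sevenThree_psl_three (F := F) hF
    have hnc : ¬ Commute a b := fun hc => by
      have e1 : a ^ 2 = a := by rw [← hab', hc.symm.eq, mul_inv_cancel_right]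
      rw [sq, mul_eq_left] at e1
      rw [e1, orderOf_one] at ha
      omega
    have hTtop : T = ⊤ := by
      refine CfsgLib.ThreeOrd.eq_top_of_pair hCX hpq (x := ((e.symm a : T) : G ⧸ Cfsg.pCore 2 G))
        (y := ((e.symm b : T) : G ⧸ Cfsg.pCore 2 G)) (r := 7) (s := 3) (by norm_num) (by norm_num)
        (by norm_num) (by norm_num) (e.symm a).2 (e.symm b).2
        (by rw [Subgroup.orderOf_coe, MulEquiv.orderOf_eq, ha])
        (by rw [Subgroup.orderOf_coe, MulEquiv.orderOf_eq, hb])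
        (by rwa [Nat.card_congr e.toEquiv]) ?_ fun hc => hnc ?_
      · refine ⟨2, ?_⟩
        show ((e.symm a : T) : G ⧸ Cfsg.pCore 2 G) ^ (2 : ℤ) = _
        rw [← Subgroup.coe_inv, ← Subgroup.coe_mul, ← Subgroup.coe_mul, ← map_inv, ← map_mul,
          ← map_mul, hab', map_pow, Subgroup.coe_pow, zpow_two, sq]
      · exact e.symm.injective (by rw [map_mul, map_mul]; exact Subtype.ext hc.eq)
    let ε : G ⧸ Cfsg.pCore 2 G ≃* Matrix.ProjectiveSpecialLinearGroup (Fin 3) F :=
      (Subgroup.topEquiv.symm.trans (MulEquiv.subgroupCongr hTtop.symm)).trans e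
    obtain ⟨x, y, hx, hy, hxy, hx1, hy1, hxy1, hxy2⟩ := exists_three_pair hF
    have hW1 : Cfsg.pCore 2 G = ⊥ := eq_bot_of_three_pair hC _ hW (ε.symm x) (ε.symm y)
      (by rw [← map_pow, hx, map_one]) (by rw [← map_pow, hy, map_one])
      (by rw [← map_mul, ← map_mul, hxy]) (by simpa using hx1) (by simpa using hy1)
      (fun he => hxy1 (ε.symm.injective (by rw [map_mul, map_one]; exact he)))
      (fun he => hxy2 (ε.symm.injective (by rw [map_mul, map_inv, map_one]; exact he)))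
    exact Or.inl ⟨F, iF, iFF, hF,
      ⟨((QuotientGroup.quotientBot (G := G)).symm.trans
        (QuotientGroup.quotientMulEquivOfEq hW1.symm)).trans ε⟩⟩
  · refine Or.inr ⟨Cfsg.pCore 2 G, inferInstance, hW, F, iF, iFF, ?_⟩
    rcases hcase with ⟨hF, ⟨e⟩⟩ | ⟨hF, ⟨e⟩⟩
    · have hTtop := eq_top_sz hCX T hpq (m := 1) ⟨le_rfl, by rw [hF]; norm_num⟩ e
      exact Or.inl ⟨hF, ⟨(Subgroup.topEquiv.symm.trans (MulEquiv.subgroupCongr hTtop.symm)).trans e⟩⟩
    · have hTtop := eq_top_sz hCX T hpq (m := 2) ⟨by omega, by rw [hF]; norm_num⟩ e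
      exact Or.inr ⟨hF, ⟨(Subgroup.topEquiv.symm.trans (MulEquiv.subgroupCongr hTtop.symm)).trans e⟩⟩

end CfsgLib.EPPOSimple
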