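import Mathlib
import Cfsg.Agent.Lib.SpecFive.Arith

/-!
# Arithmetic for simple groups all of whose elements have prime power order
-/

set_option autoImplicit false

namespace CfsgLib.EPPOSimple

theorem exists_prime_pow_of_dvd {p n : ℕ} (hp : p.Prime) (hn : IsPrimePow n) (hd : p ∣ n) :
    ∃ a, 1 ≤ a ∧ n = p ^ a := by
  obtain ⟨l, a, hl, ha, rfl⟩ := (isPrimePow_nat_iff n).1 hn
  obtain rfl : p = l := (Nat.prime_dvd_prime_iff_eq hp hl).1 (hp.dvd_of_dvd_pow hd)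
  exact ⟨a, ha, rfl⟩

theorem two_pow_mod_three (n : ℕ) : 2 ^ n % 3 = if Even n then 1 else 2 := by
  induction n with
  | zero => rfl
  | succ n ih =>
    rw [pow_succ, Nat.mul_mod, ih]
    by_cases h : Even n <;> simp [h, Nat.even_add_one]

theorem three_pow_two {n a : ℕ} (ha : 1 ≤ a) (h : 2 ^ n = 3 ^ a + 1) : n = 2 :=
  (CfsgLib.SpecFive.Arith.two_pow_eq_three_succ ha h).1

theorem three_pow_two' {n a : ℕ} (ha : 1 ≤ a) (h : 3 ^ a = 2 ^ n + 1) : n = 1 ∨ n = 3 :=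
  (CfsgLib.SpecFive.Arith.three_pow_eq_two_succ ha h).imp And.left And.left

/-- `2 ^ n - 1` and `2 ^ n + 1` are prime powers only for `n = 2, 3`. -/
theorem even_char_cases {n : ℕ} (hn : 2 ≤ n) (h1 : IsPrimePow (2 ^ n - 1))
    (h2 : IsPrimePow (2 ^ n + 1)) : n = 2 ∨ n = 3 := by
  have h3 := two_pow_mod_three n
  have hpos := Nat.one_le_two_pow (n := n)
  by_cases he : Even n
  · rw [if_pos he] at h3
    obtain ⟨a, ha, e⟩ := exists_prime_pow_of_dvd Nat.prime_three h1 (by omega)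
    exact Or.inl (three_pow_two ha (by omega))
  · rw [if_neg he] at h3
    obtain ⟨a, ha, e⟩ := exists_prime_pow_of_dvd Nat.prime_three h2 (by omega)
    rcases three_pow_two' ha e.symm with h | h <;> omega

/-- The Fermat primes `q` with `(q + 1) / 2` a prime power. -/
theorem fermat_cases {q k : ℕ} (hq : q.Prime) (h5 : 5 ≤ q) (hk : q = 2 ^ k + 1)
    (h2 : IsPrimePow ((q + 1) / 2)) : q = 5 ∨ q = 17 := by
  obtain ⟨j, rfl⟩ : ∃ j, k = j + 1 := ⟨k - 1, by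
    rcases k with _ | k
    · norm_num at hk; omega
    · omega⟩
  have h3 := two_pow_mod_three j
  have hs : 2 ^ (j + 1) = 2 * 2 ^ j := pow_succ' 2 j
  have hdiv : (q + 1) / 2 = 2 ^ j + 1 := by omega
  rw [hdiv] at h2
  by_cases he : Even j
  · rw [if_pos he] at h3
    have := (Nat.prime_dvd_prime_iff_eq Nat.prime_three hq).1 (by omega)
    omega
  · rw [if_neg he] at h3
    obtain ⟨a, ha, e⟩ := exists_prime_pow_of_dvd Nat.prime_three h2 (by omega)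
    rcases three_pow_two' ha e.symm with rfl | rfl
    · left; omega
    · right; omega

/-- The Mersenne primes `q` with `(q - 1) / 2` a prime power. -/
theorem mersenne_cases {q k : ℕ} (hq : q.Prime) (h5 : 5 ≤ q) (hk : q + 1 = 2 ^ k)
    (h2 : IsPrimePow ((q - 1) / 2)) : q = 7 := by
  obtain ⟨j, rfl⟩ : ∃ j, k = j + 1 := ⟨k - 1, by
    rcases k with _ | k
    · simp at hk; omega
    · omega⟩
  have h3 := two_pow_mod_three j
  have hs : 2 ^ (j + 1) = 2 * 2 ^ j := pow_succ' 2 j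
  have hdiv : (q - 1) / 2 = 2 ^ j - 1 := by omega
  rw [hdiv] at h2
  by_cases he : Even j
  · rw [if_pos he] at h3
    obtain ⟨a, ha, e⟩ := exists_prime_pow_of_dvd Nat.prime_three h2 (by omega)
    obtain rfl := three_pow_two ha (show 2 ^ j = 3 ^ a + 1 by omega)
    omega
  · rw [if_neg he] at h3
    have := (Nat.prime_dvd_prime_iff_eq Nat.prime_three hq).1 (by omega)
    omega

/-- `q + r + 1` and `q - r + 1` are prime powers only for `m ≤ 2`. -/
theorem suzuki_cases {m : ℕ} (hm : 1 ≤ m)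
    (h1 : IsPrimePow (2 ^ (2 * m + 1) + 2 ^ (m + 1) + 1))
    (h2 : IsPrimePow (2 ^ (2 * m + 1) - 2 ^ (m + 1) + 1)) : m = 1 ∨ m = 2 := by
  have hq : 2 ^ (2 * m + 1) = 2 * (2 ^ m) ^ 2 := by rw [pow_succ', ← pow_mul, mul_comm m]
  have hr : 2 ^ (m + 1) = 2 * 2 ^ m := pow_succ' 2 m
  have h4 : ((2 ^ m) ^ 4) % 5 = 1 := by
    rw [← pow_mul, mul_comm, pow_mul, Nat.pow_mod]
    simp
  have hx2 : 2 ≤ 2 ^ m := Nat.le_self_pow (by omega) 2
  have hB : 2 ^ m ≤ (2 ^ m) ^ 2 := Nat.le_self_pow two_ne_zero _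
  generalize hxdef : 2 ^ m = x at *
  have hprod : (2 * x ^ 2 + 2 * x + 1) * (2 * x ^ 2 - 2 * x + 1) = 4 * x ^ 4 + 1 := by
    zify [show 2 * x ≤ 2 * x ^ 2 by omega]
    ring
  have h5 : 5 ∣ (2 * x ^ 2 + 2 * x + 1) * (2 * x ^ 2 - 2 * x + 1) := by rw [hprod]; omega
  rw [hq, hr] at h1 h2
  -- a power of five congruent to one modulo `2 ^ (m + 1)`
  have key : ∃ a, 1 ≤ a ∧ 5 ^ a < 4 * x ^ 2 + 4 * x ∧ 2 * x ∣ 5 ^ a - 1 := by
    rcases (Nat.Prime.dvd_mul Nat.prime_five).1 h5 with h | h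
    · obtain ⟨a, ha, e⟩ := exists_prime_pow_of_dvd Nat.prime_five h1 h
      refine ⟨a, ha, by omega, ⟨x + 1, ?_⟩⟩
      rw [← e, Nat.add_sub_cancel]; ring
    · obtain ⟨a, ha, e⟩ := exists_prime_pow_of_dvd Nat.prime_five h2 h
      refine ⟨a, ha, by omega, ⟨x - 1, ?_⟩⟩
      rw [← e, Nat.add_sub_cancel, Nat.mul_sub, mul_one, mul_assoc, sq]
  obtain ⟨a, ha, hlt, hdvd⟩ := key
  obtain ⟨j, rfl⟩ : ∃ j, m = j + 1 := ⟨m - 1, by omega⟩
  rw [← hxdef, ← pow_succ'] at hdvd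
  have hord : 2 ^ j ∣ a := by
    rw [← ZMod.orderOf_five j, orderOf_dvd_iff_pow_eq_one]
    have h0 := (ZMod.natCast_eq_zero_iff _ _).2 hdvd
    rw [Nat.cast_sub (Nat.one_le_pow _ _ (by norm_num)), sub_eq_zero] at h0
    push_cast at h0
    exact h0
  by_contra hc
  have hj : 2 ≤ j := by omega
  have hja : 2 ^ j ≤ a := Nat.le_of_dvd ha hord
  have h45 : 4 ^ (2 ^ j) < 5 ^ a :=
    lt_of_lt_of_le (Nat.pow_lt_pow_left (by norm_num) (by positivity))
      (Nat.pow_le_pow_right (by norm_num) hja)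
  have hexp : 2 * j + 4 ≤ 2 * 2 ^ j := by
    obtain ⟨i, rfl⟩ : ∃ i, j = i + 2 := ⟨j - 2, by omega⟩
    have := Nat.lt_two_pow_self (n := i)
    rw [show 2 ^ (i + 2) = 4 * 2 ^ i by ring]
    omega
  have h8 : 2 ^ (2 * j + 4) ≤ 2 ^ (2 * 2 ^ j) := Nat.pow_le_pow_right (by norm_num) hexp
  have h9 : 2 ^ (2 * 2 ^ j) = 4 ^ (2 ^ j) := by rw [pow_mul]; norm_num
  have h10 : 2 ^ (2 * j + 4) = 4 * x ^ 2 := by rw [← hxdef]; ring
  have h11 : 4 * x ≤ 4 * x ^ 2 := by omega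
  -- `5 ^ a - 1` is `2 x (x ± 1)`
  have h12 : 4 * x ^ 2 + 4 * x ≤ 2 ^ (2 * j + 5) := by
    rw [show 2 * j + 5 = 2 * j + 4 + 1 from rfl, pow_succ 2 (2 * j + 4), h10]; omega
  have h13 : 2 * j + 5 ≤ 2 * 2 ^ j ∨ j = 2 := by
    rcases Nat.lt_or_ge j 3 with h | h
    · omega
    · left
      obtain ⟨i, rfl⟩ : ∃ i, j = i + 3 := ⟨j - 3, by omega⟩
      have := Nat.lt_two_pow_self (n := i)
      rw [show 2 ^ (i + 3) = 8 * 2 ^ i by ring]
      omega
  rcases h13 with h13 | rfl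
  · have := Nat.pow_le_pow_right (show 1 ≤ 2 by norm_num) h13
    omega
  · subst hxdef
    norm_num at hlt h45 hja hdvd
    have : 625 ≤ 5 ^ a := le_trans (by norm_num) (Nat.pow_le_pow_right (by norm_num) hja)
    omega

end CfsgLib.EPPOSimple
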