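import Cfsg.Agent.Lib.EPPOSimple.Arith
import Cfsg.Agent.Lib.CIT.CutTwo
import Cfsg.Agent.Lib.CITApp.Seven
import Cfsg.Agent.Lib.ZTIso.Zassenhaus
import Cfsg.Agent.Lib.Suzuki.Summary
import Cfsg.Agent.Lib.SuzukiMatrix.Bridge
import Cfsg.Agent.Lib.Linear.PSL2Nine
import Cfsg.Agent.Lib.Present.BinIcosahedral
import Cfsg.Agent.S0494

/-!
# Simple groups all of whose elements have prime power order
-/

set_option autoImplicit false
set_option linter.style.haveILetI false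

namespace CfsgLib.EPPOSimple

open CfsgLib.CIT Matrix

/-- The list. -/
def List' (G : Type*) [Group G] : Prop :=
  Nonempty (G ≃* alternatingGroup (Fin 6)) ∨
    (∃ (F : Type) (_ : Field F) (_ : Fintype F), Fintype.card F ∈ ({4, 7, 8, 17} : Finset ℕ) ∧
      Nonempty (G ≃* Matrix.ProjectiveSpecialLinearGroup (Fin 2) F)) ∨
    (∃ (F : Type) (_ : Field F) (_ : Fintype F), Fintype.card F = 4 ∧
      Nonempty (G ≃* Matrix.ProjectiveSpecialLinearGroup (Fin 3) F)) ∨
    (∃ (F : Type) (_ : Field F) (_ : Fintype F),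
      (Fintype.card F = 8 ∧ Nonempty (G ≃* ↥(Cfsg.Lie.Sz F 4))) ∨
        (Fintype.card F = 32 ∧ Nonempty (G ≃* ↥(Cfsg.Lie.Sz F 8))))

variable {G : Type*} [Group G] [Finite G]

theorem isCIT (h : ∀ g : G, g ≠ 1 → IsPrimePow (orderOf g)) : IsCIT G := by
  refine CfsgLib.CITApp.isCIT_of_no_commute fun t x r hr hr2 ht hx hc => ?_
  have ho : orderOf (t * x) = 2 * r := by
    rw [hc.orderOf_mul_eq_mul_orderOf_of_coprime, ht, hx]
    rw [ht, hx]
    exact (Nat.coprime_primes Nat.prime_two hr).2 (Ne.symm hr2)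
  have hne : t * x ≠ 1 := fun e => by
    rw [e, orderOf_one] at ho
    omega
  obtain ⟨p, k, hp, hk, he⟩ := (isPrimePow_nat_iff _).1 (ho ▸ h _ hne)
  have e1 := (Nat.prime_dvd_prime_iff_eq Nat.prime_two hp).1
    (Nat.prime_two.dvd_of_dvd_pow (he ▸ dvd_mul_right 2 r))
  have e2 := (Nat.prime_dvd_prime_iff_eq hr hp).1 (hr.dvd_of_dvd_pow (he ▸ dvd_mul_left r 2))
  exact hr2 (e2.trans e1.symm)

omit [Finite G] in
theorem isPrimePow_order {H : Type*} [Group H] (h : ∀ g : G, g ≠ 1 → IsPrimePow (orderOf g))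
    (e : G ≃* H) {g : H} {n : ℕ} (hn : orderOf g = n) (h1 : 1 < n) : IsPrimePow n := by
  rw [← hn, ← MulEquiv.orderOf_eq e.symm g]
  refine h _ fun he => ?_
  rw [← MulEquiv.orderOf_eq e.symm g, he, orderOf_one] at hn
  omega

theorem four_le_card [IsSimpleGroup G] (hab : ∃ a b : G, a * b ≠ b * a) {F : Type} [Field F]
    [Fintype F] (e : G ≃* ProjectiveSpecialLinearGroup (Fin 2) F) : 4 ≤ Fintype.card F := by
  by_contra hlt
  have h2 : 2 ≤ Fintype.card F := Fintype.one_lt_card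
  have hc := CfsgLib.CITApp.card_psl_two_mul (F := F)
  rw [← Nat.card_congr e.toEquiv] at hc
  have h60 : Nat.card G ∣ 60 ∧ Nat.card G ≠ 60 := by
    rcases (show Fintype.card F = 2 ∨ Fintype.card F = 3 by omega) with h | h <;> rw [h] at hc <;>
      norm_num at hc
    · exact ⟨by rw [hc]; norm_num, by omega⟩
    · rw [show Nat.card G = 12 by omega]; norm_num
  obtain ⟨a, b, hne⟩ := hab
  exact hne (IsSimpleGroup.comm_iff_isSolvable.mpr
    (CfsgLib.Present.isSolvable_of_card_dvd_sixty h60.1 h60.2) a b)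

theorem psl_four_of_five [IsSimpleGroup G] {F : Type} [Field F] [Fintype F]
    (hF : Fintype.card F = 5) (e : G ≃* ProjectiveSpecialLinearGroup (Fin 2) F) :
    ∃ (K : Type) (_ : Field K) (_ : Fintype K), Fintype.card K = 4 ∧
      Nonempty (G ≃* ProjectiveSpecialLinearGroup (Fin 2) K) := by
  haveI : Fact (Nat.Prime 2) := ⟨Nat.prime_two⟩
  letI : Fintype (GaloisField 2 2) := Fintype.ofFinite _
  have hK : Fintype.card (GaloisField 2 2) = 4 := by
    rw [← Nat.card_eq_fintype_card, GaloisField.card 2 2 (by norm_num)]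
    norm_num
  haveI := CfsgLib.Linear.isSimpleGroup_PSL_fin (F := GaloisField 2 2) 2 le_rfl fun _ => by
    rw [Nat.card_eq_fintype_card, hK]
  have hc := CfsgLib.CITApp.card_psl_two_mul (F := F)
  rw [← Nat.card_congr e.toEquiv, hF] at hc
  have hc' := CfsgLib.CITApp.card_psl_two_mul (F := GaloisField 2 2)
  rw [hK] at hc'
  norm_num at hc hc'
  obtain ⟨e₁⟩ := Cfsg.Agent.S0494.result (G := G) (by omega)
  obtain ⟨e₂⟩ := Cfsg.Agent.S0494.result
    (G := ProjectiveSpecialLinearGroup (Fin 2) (GaloisField 2 2)) hc'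
  exact ⟨_, inferInstance, inferInstance, hK, ⟨e₁.trans e₂.symm⟩⟩

theorem psl_two_case [IsSimpleGroup G] (hab : ∃ a b : G, a * b ≠ b * a)
    (h : ∀ g : G, g ≠ 1 → IsPrimePow (orderOf g)) {F : Type} [Field F] [Fintype F]
    (e : G ≃* ProjectiveSpecialLinearGroup (Fin 2) F) : List' G := by
  have h4 := four_le_card hab e
  obtain ⟨⟨c, hc⟩, ⟨d, hd⟩⟩ := CfsgLib.CITApp.exists_orders (F := F) h4
  have hlist : ∀ q ∈ ({4, 7, 8, 17} : Finset ℕ), Fintype.card F = q → List' G := fun q hq e' =>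
    Or.inr (Or.inl ⟨F, inferInstance, inferInstance, e' ▸ hq, ⟨e⟩⟩)
  rcases psl_two_card (isCIT h) F ⟨e⟩ with h9 | ⟨n, hn⟩ | ⟨hq, k, hk⟩
  · obtain ⟨e'⟩ := CfsgLib.Linear.PSL2Nine.exists_PSL2_equiv_A6 h9
    exact Or.inl ⟨e.trans e'⟩
  · have hn2 : 2 ≤ n := by
      by_contra hlt
      rcases (show n = 0 ∨ n = 1 by omega) with rfl | rfl <;> simp at hn <;> omega
    rw [hn, CfsgLib.CITApp.gcd_two_sub_one (by omega), Nat.div_one] at hc hd
    have hpos : 4 ≤ 2 ^ n := le_trans (by norm_num) (Nat.pow_le_pow_right two_pos hn2)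
    rcases even_char_cases hn2 (isPrimePow_order h e hc (by omega))
        (isPrimePow_order h e hd (by omega)) with rfl | rfl
    · exact hlist 4 (by simp) hn
    · exact hlist 8 (by simp) hn
  · have h5 : 5 ≤ Fintype.card F := by
      by_contra
      exact Nat.not_prime_mul (a := 2) (b := 2) (by norm_num) (by norm_num)
        (show (Nat.Prime (2 * 2)) by rwa [show Fintype.card F = 2 * 2 by omega] at hq)
    obtain ⟨i, hi⟩ := hq.odd_of_ne_two (by omega)
    have hg : Nat.gcd 2 (Fintype.card F - 1) = 2 := Nat.gcd_eq_left ⟨i, by omega⟩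
    rw [hg] at hc hd
    rcases hk with hk | hk
    · rcases fermat_cases hq h5 hk (isPrimePow_order h e hd (by omega)) with h5' | h17
      · exact Or.inr (Or.inl (let ⟨K, i1, i2, hK, he⟩ := psl_four_of_five h5' e
          ⟨K, i1, i2, by simp [hK], he⟩))
      · exact hlist 17 (by simp) h17
    · rcases Nat.lt_or_ge 5 (Fintype.card F) with h6 | h6
      · exact hlist 7 (by simp) (mersenne_cases hq h5 hk (isPrimePow_order h e hc (by omega)))
      · exact Or.inr (Or.inl (let ⟨K, i1, i2, hK, he⟩ := psl_four_of_five (by omega) e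
          ⟨K, i1, i2, by simp [hK], he⟩))

omit [Finite G] in
theorem suzuki_case (h : ∀ g : G, g ≠ 1 → IsPrimePow (orderOf g))
    (hS : Cfsg.Lie.IsoSuzuki G) : List' G := by
  obtain ⟨F, iF, iFF, m, hm, hF, ⟨e⟩⟩ := hS
  have hyp : CfsgLib.Suzuki.SzHyp F m := ⟨hm, hF⟩
  let e' := e.trans (CfsgLib.SuzukiMatrix.szEquiv hyp).symm
  obtain ⟨U₁, U₂, hU₁, hU₂, hk₁, hk₂, -, -, -⟩ := CfsgLib.Suzuki.tori_main hyp
  haveI := hU₁.isCyclic hyp
  haveI := hU₂.isCyclic hyp
  obtain ⟨u, hu⟩ := IsCyclic.exists_ofOrder_eq_natCard (α := U₁)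
  obtain ⟨v, hv⟩ := IsCyclic.exists_ofOrder_eq_natCard (α := U₂)
  rw [← Subgroup.orderOf_coe] at hu hv
  have h1 := isPrimePow_order h e' hu (by have := hU₁.five_le hyp; omega)
  have h2 := isPrimePow_order h e' hv (by have := hU₂.five_le hyp; omega)
  rw [hk₁] at h1
  rw [hk₂] at h2
  rcases suzuki_cases hm h1 h2 with rfl | rfl
  · exact Or.inr (Or.inr (Or.inr ⟨F, iF, iFF, Or.inl ⟨by rw [hF]; norm_num, ⟨e⟩⟩⟩))
  · exact Or.inr (Or.inr (Or.inr ⟨F, iF, iFF, Or.inr ⟨by rw [hF]; norm_num, ⟨e⟩⟩⟩))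

/-- The list, from the dichotomy for simple CIT groups. -/
theorem list_of_dichotomy [IsSimpleGroup G] (hab : ∃ a b : G, a * b ≠ b * a)
    (h : ∀ g : G, g ≠ 1 → IsPrimePow (orderOf g))
    (hd : NonTI G ∨ ∃ S : Sylow 2 G, IsTI S) : List' G := by
  rcases hd with (⟨F, iF, iFF, -, ⟨e⟩⟩ | h4) | ⟨S, hTI⟩
  · exact psl_two_case hab h e
  · exact Or.inr (Or.inr (Or.inl h4))
  · rcases CfsgLib.ZTIso.zassenhaus_simple_iso
        (isZassenhausGroup_of_isTI hab (two_dvd_card hab) (isCIT h) S hTI) with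
      ⟨F, iF, iFF, ⟨e⟩⟩ | hS
    · exact psl_two_case hab h e
    · exact suzuki_case h hS

end CfsgLib.EPPOSimple
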